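import Cfsg.Agent.Star.Linear
import Cfsg.Agent.BlockPairs.PairBridge
import Cfsg.Agent.BlockPairing.Heights
import Cfsg.Agent.Blocks.Height
import Cfsg.Agent.Fusion.FocalProper
import Cfsg.Agent.S5252
import Mathlib.NumberTheory.LegendreSymbol.Basic
import Mathlib.GroupTheory.SpecificGroups.Cyclic

/-!
# The number of height zero characters when the automorphisms of a defect group form a `p`-group

The sum of the squares of the normalised degrees has `p`-part `p ^ d`.  For `p ≥ 5` the focal
subgroup is proper, and the star action preserves degrees, so each degree occurs among the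
characters of height zero a multiple of `p` times.
-/

set_option autoImplicit false
set_option linter.style.haveILetI false
set_option linter.unusedSectionVars false

namespace CfsgLib.HeightZeroCount

open Cfsg CfsgLib.Blocks
open CfsgLib.BlockPairs (gblk isBlock_gblk exists_maxPair isDefectGroup_gblk_iff IsMaxPair
  blockSystem isSaturated_blockSystem cj)

universe u

variable {G : Type u} [Group G] [Fintype G] {M : Ideal AlgInt} [M.IsPrime] {p : ℕ}
  [hp : Fact p.Prime]

/-- The degree divided by the smallest `p`-part in the block. -/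
noncomputable def nd (p : ℕ) (B : Set (IrrCharacter G)) (χ : IrrCharacter G) : ℕ :=
  Cfsg.charDegree (χ : G → ℂ) / p ^ ((Nat.card G).factorization p - Cfsg.blockDefect p B)

theorem degree_part (hM : Cfsg.IsPModular p M) {B : Set (IrrCharacter G)}
    (hB : Cfsg.IsPBlock M B) {χ : IrrCharacter G} (hχ : χ ∈ B) :
    (Cfsg.charDegree (χ : G → ℂ)).factorization p =
      (Nat.card G).factorization p - Cfsg.blockDefect p B +
        Cfsg.blockHeight p B (χ : G → ℂ) := by
  obtain ⟨D, hD⟩ := exists_isDefectGroup (p := p) hB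
  have h1 := blockHeight_eq hM hB hD hχ
  have h2 := blockDefect_eq hM hB hD
  have h3 := sInf_degree_eq hM hB hD
  omega

theorem degree_eq (hM : Cfsg.IsPModular p M) {B : Set (IrrCharacter G)}
    (hB : Cfsg.IsPBlock M B) {χ : IrrCharacter G} (hχ : χ ∈ B) :
    p ^ ((Nat.card G).factorization p - Cfsg.blockDefect p B) * nd p B χ =
      Cfsg.charDegree (χ : G → ℂ) := by
  refine Nat.mul_div_cancel' ?_
  exact ((Nat.pow_dvd_pow p (by rw [degree_part hM hB hχ]; omega)).trans
    (Nat.ordProj_dvd _ p))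

theorem nd_factorization (hM : Cfsg.IsPModular p M) {B : Set (IrrCharacter G)}
    (hB : Cfsg.IsPBlock M B) {χ : IrrCharacter G} (hχ : χ ∈ B) :
    nd p B χ ≠ 0 ∧ (nd p B χ).factorization p = Cfsg.blockHeight p B (χ : G → ℂ) := by
  have h := degree_eq hM hB hχ
  have h0 : nd p B χ ≠ 0 := fun e => charDegree_ne_zero χ (by rw [← h, e, mul_zero])
  refine ⟨h0, ?_⟩
  have h1 := degree_part hM hB hχ
  rw [← h, Nat.factorization_mul (pow_ne_zero _ hp.out.ne_zero) h0, Finsupp.add_apply,
    hp.out.factorization_pow, Finsupp.single_eq_same] at h1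
  omega

theorem not_dvd_nd (hM : Cfsg.IsPModular p M) {B : Set (IrrCharacter G)}
    (hB : Cfsg.IsPBlock M B) {χ : IrrCharacter G} (hχ : χ ∈ B)
    (h0 : Cfsg.blockHeight p B (χ : G → ℂ) = 0) : ¬ p ∣ nd p B χ := by
  obtain ⟨hn, hf⟩ := nd_factorization hM hB hχ
  intro h
  have := hp.out.factorization_pos_of_dvd hn h
  omega

open Classical in
/-- The members of height zero. -/
noncomputable def heightZero (p : ℕ) (B : Set (IrrCharacter G)) : Finset (IrrCharacter G) :=
  Finset.univ.filter fun χ => χ ∈ B ∧ Cfsg.blockHeight p B (χ : G → ℂ) = 0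

open Classical in
theorem card_heightZero (p : ℕ) (B : Set (IrrCharacter G)) :
    Nat.card {χ : IrrCharacter G // χ ∈ B ∧ Cfsg.blockHeight p B (χ : G → ℂ) = 0} =
      (heightZero p B).card := by
  rw [Nat.card_eq_fintype_card, Fintype.card_subtype, heightZero]

open Classical in
/-- `p ^ min d 2` divides the sum of the squared normalised degrees of height zero. -/
theorem dvd_sum_sq (hM : Cfsg.IsPModular p M) {B : Set (IrrCharacter G)}
    (hB : Cfsg.IsPBlock M B) {k : ℕ} (hk : k ≤ 2) (hkd : k ≤ Cfsg.blockDefect p B) :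
    p ^ k ∣ ∑ χ ∈ heightZero p B, nd p B χ ^ 2 := by
  obtain ⟨χ₀, hχ₀⟩ := isPBlock_nonempty hB
  set m := (Nat.card G).factorization p - Cfsg.blockDefect p B with hm
  have hda : Cfsg.blockDefect p B ≤ (Nat.card G).factorization p := Nat.sub_le _ _
  set S := ∑ χ : IrrCharacter G, if χ ∈ B then nd p B χ ^ 2 else 0 with hS
  have hS0 : S ≠ 0 := fun h => (nd_factorization hM hB hχ₀).1 (by
    have := Finset.sum_eq_zero_iff.1 h χ₀ (Finset.mem_univ _)
    rw [if_pos hχ₀] at this
    exact pow_eq_zero_iff two_ne_zero |>.1 this)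
  have h := BlockPairing.sum_degree_sq_factorization hM hB
  rw [show (∑ χ : IrrCharacter G, if χ ∈ B then Cfsg.charDegree (χ : G → ℂ) ^ 2 else 0) =
      p ^ (2 * m) * S by
    rw [hS, Finset.mul_sum]
    refine Finset.sum_congr rfl fun χ _ => ?_
    split_ifs with hχ
    · rw [← degree_eq hM hB hχ, mul_pow, ← pow_mul, mul_comm m 2]
    · rw [mul_zero],
    Nat.factorization_mul (pow_ne_zero _ hp.out.ne_zero) hS0, Finsupp.add_apply,
    hp.out.factorization_pow, Finsupp.single_eq_same] at h
  have hkS : p ^ k ∣ S :=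
    (Nat.pow_dvd_pow p (show k ≤ S.factorization p by omega)).trans (Nat.ordProj_dvd S p)
  rw [hS, ← Finset.sum_filter, ← Finset.sum_filter_add_sum_filter_not
    (Finset.univ.filter fun χ => χ ∈ B) fun χ => Cfsg.blockHeight p B (χ : G → ℂ) = 0,
    Finset.filter_filter, Finset.filter_filter] at hkS
  refine (Nat.dvd_add_left ?_).1 hkS
  refine Finset.dvd_sum fun χ hχ => ?_
  obtain ⟨hχB, hh⟩ := (Finset.mem_filter.1 hχ).2
  obtain ⟨hn, hf⟩ := nd_factorization hM hB hχB
  refine (Nat.pow_dvd_pow p hk).trans (pow_dvd_pow_of_dvd ?_ 2)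
  exact Nat.dvd_of_factorization_pos (by omega)

open Classical in
theorem heightZero_nonempty {B : Set (IrrCharacter G)} (hB : Cfsg.IsPBlock M B) :
    (heightZero p B).Nonempty := by
  obtain ⟨χ, hχ, hmin, -⟩ := BlockPairing.exists_minimal (p := p) hB
  refine ⟨χ, Finset.mem_filter.2 ⟨Finset.mem_univ _, hχ, ?_⟩⟩
  rw [Cfsg.blockHeight, Nat.sub_eq_zero_iff_le]
  exact le_csInf (Set.image_nonempty.2 ⟨χ, hχ⟩) (by rintro _ ⟨η, hη, rfl⟩; exact hmin η hη)

open Classical in
/-- For `p ≤ 3` the characters of height zero in a block of positive defect are a multiple of `p`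
in number. -/
theorem dvd_card_of_le_three (hM : Cfsg.IsPModular p M) {B : Set (IrrCharacter G)}
    (hB : Cfsg.IsPBlock M B) (hd : 1 ≤ Cfsg.blockDefect p B) (hp3 : p ≤ 3) :
    p ∣ (heightZero p B).card := by
  have h := dvd_sum_sq hM hB (k := 1) (by norm_num) hd
  rw [pow_one] at h
  have hz : ∀ z : ZMod p, z ≠ 0 → z ^ 2 = 1 := by
    have hlt := hp.out.two_le
    intro z hz
    have h := ZMod.pow_card_sub_one_eq_one hz
    rcases (by omega : p = 2 ∨ p = 3) with e | e
    · subst e
      rw [show 2 - 1 = 1 from rfl, pow_one] at h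
      rw [h, one_pow]
    · subst e
      exact h
  have h1 : ∀ χ ∈ heightZero p B, ((nd p B χ ^ 2 : ℕ) : ZMod p) = 1 := by
    intro χ hχ
    obtain ⟨hχB, hh⟩ := (Finset.mem_filter.1 hχ).2
    have hn : ((nd p B χ : ℕ) : ZMod p) ≠ 0 := fun e =>
      not_dvd_nd hM hB hχB hh ((ZMod.natCast_eq_zero_iff _ _).1 e)
    rw [Nat.cast_pow]
    exact hz _ hn
  rw [← ZMod.natCast_eq_zero_iff] at h ⊢
  rw [Nat.cast_sum, Finset.sum_congr rfl h1, Finset.sum_const, nsmul_eq_mul, mul_one] at h
  exact h

section Star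

variable [CharP (Res M) p] [IsAlgClosed (Res M)] {P : Subgroup G} {eP : BlockPairs.GA (Res M) G}
  (hM : Cfsg.IsPModular p M) {B : Set (IrrCharacter G)} (hB : Cfsg.IsPBlock M B)
  (hmax : IsMaxPair p (⊤ : Subgroup G) (gblk M B) P eP)

include hM hB hmax

open Classical in
/-- Each degree occurs among the characters of height zero a multiple of the focal index times. -/
theorem index_dvd_card_degree (n : ℕ) :
    ((blockSystem hmax.1.1).focalSubgroup.subgroupOf P).index ∣
      ((heightZero p B).filter fun χ : IrrCharacter G => Cfsg.charDegree (χ : G → ℂ) = n).card := by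
  set K := (blockSystem hmax.1.1).focalSubgroup.subgroupOf P with hKdef
  have hK : (blockSystem hmax.1.1).focalSubgroup.subgroupOf P ≤ K := le_rfl
  letI A := Star.starAction hM hB hmax hK 0
  have hdeg : ∀ (l : Star.annih K)
      (χ : {χ : IrrCharacter G // χ ∈ B ∧ Cfsg.blockHeight p B (χ : G → ℂ) = 0}),
      Cfsg.charDegree ((l • χ).1 : G → ℂ) = Cfsg.charDegree (χ.1 : G → ℂ) := by
    intro l χ
    have h := (Star.exists_star_irr hM hB hmax hK 0 l χ).choose_spec
    refine Nat.cast_injective (R := ℂ) ?_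
    rw [charDegree_cast, charDegree_cast]
    show (((Star.exists_star_irr hM hB hmax hK 0 l χ).choose : IrrCharacter G) : G → ℂ) 1 = _
    rw [h, Star.star_regular hM hB hmax (Star.isInvariant_lext hmax.1.1 (hK.trans l.2)) χ.2.1
      (by rw [orderOf_one]; exact hp.out.not_dvd_one), Star.lext_one, one_mul]
  letI : MulAction (Star.annih K)
      {χ : {χ : IrrCharacter G // χ ∈ B ∧ Cfsg.blockHeight p B (χ : G → ℂ) = 0} //
        Cfsg.charDegree (χ.1 : G → ℂ) = n} :=
    { smul := fun l χ => ⟨l • χ.1, (hdeg l χ.1).trans χ.2⟩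
      one_smul := fun χ => Subtype.ext (one_smul _ χ.1)
      mul_smul := fun l l' χ => Subtype.ext (mul_smul l l' χ.1) }
  have hdvd := Star.relIndex_dvd_card (K := K)
    (X := {χ : {χ : IrrCharacter G // χ ∈ B ∧ Cfsg.blockHeight p B (χ : G → ℂ) = 0} //
        Cfsg.charDegree (χ.1 : G → ℂ) = n})
    ((Star.commutator_le_focal_subgroupOf _).trans hK) ⊤ fun χ l hl w _ => by
      refine Star.eq_one_of_height_zero hM hB hmax
        (Star.isInvariant_lext hmax.1.1 (hK.trans l.2)) χ.1.2.1 χ.1.2.2 ?_ w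
      exact (Star.exists_star_irr hM hB hmax hK 0 l χ.1).choose_spec.symm.trans
        (congrArg (fun ψ => ((ψ : IrrCharacter G) : G → ℂ))
          (congrArg (fun z => z.1.1) hl))
  rw [Subgroup.relIndex_top_right] at hdvd
  refine hdvd.trans (dvd_of_eq ?_)
  rw [Nat.card_congr (Equiv.subtypeSubtypeEquivSubtypeInter
    (fun χ : IrrCharacter G => χ ∈ B ∧ Cfsg.blockHeight p B (χ : G → ℂ) = 0)
    (fun χ : IrrCharacter G => Cfsg.charDegree (χ : G → ℂ) = n)), Nat.card_eq_fintype_card, Fintype.card_subtype,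
    heightZero, Finset.filter_filter]

open Classical in
theorem dvd_card_heightZero {q : ℕ}
    (hq : q ∣ ((blockSystem hmax.1.1).focalSubgroup.subgroupOf P).index) :
    q ∣ (heightZero p B).card := by
  rw [Finset.card_eq_sum_card_fiberwise (f := fun χ : IrrCharacter G => Cfsg.charDegree (χ : G → ℂ))
    (t := (heightZero p B).image fun χ : IrrCharacter G => Cfsg.charDegree (χ : G → ℂ))
    (fun χ hχ => Finset.mem_image_of_mem _ hχ)]
  exact Finset.dvd_sum fun n _ => hq.trans (index_dvd_card_degree hM hB hmax n)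

open Classical in
/-- The bounds, given that `p` divides the focal index. -/
theorem bounds (hp5 : 5 ≤ p) (hd : 2 ≤ Cfsg.blockDefect p B)
    (hfoc : p ∣ ((blockSystem hmax.1.1).focalSubgroup.subgroupOf P).index) :
    p ∣ (heightZero p B).card ∧ 2 * p ≤ (heightZero p B).card ∧
      (p % 4 = 3 → 3 * p ≤ (heightZero p B).card) := by
  set T := heightZero p B
  have hdvd : p ∣ T.card := dvd_card_heightZero hM hB hmax hfoc
  refine ⟨hdvd, ?_⟩
  have hsum := dvd_sum_sq hM hB (k := 2) le_rfl hd
  have hnd : ∀ χ ∈ T, ¬ p ∣ nd p B χ := fun χ hχ =>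
    not_dvd_nd hM hB (Finset.mem_filter.1 hχ).2.1 (Finset.mem_filter.1 hχ).2.2
  -- the sum over the characters of one degree
  have hfib : ∀ χ ∈ T, p ≤ (T.filter fun ψ : IrrCharacter G => Cfsg.charDegree (ψ : G → ℂ) =
      Cfsg.charDegree (χ : G → ℂ)).card ∧
      ∑ ψ ∈ T.filter (fun ψ : IrrCharacter G => Cfsg.charDegree (ψ : G → ℂ) = Cfsg.charDegree (χ : G → ℂ)),
        nd p B ψ ^ 2 = (T.filter fun ψ : IrrCharacter G => Cfsg.charDegree (ψ : G → ℂ) =
          Cfsg.charDegree (χ : G → ℂ)).card * nd p B χ ^ 2 := by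
    intro χ hχ
    refine ⟨Nat.le_of_dvd (Finset.card_pos.2 ⟨χ, Finset.mem_filter.2 ⟨hχ, rfl⟩⟩)
      (hfoc.trans (index_dvd_card_degree hM hB hmax _)), ?_⟩
    rw [Finset.sum_congr rfl (g := fun _ => nd p B χ ^ 2) fun ψ hψ => by
      rw [nd, nd, (Finset.mem_filter.1 hψ).2], Finset.sum_const, smul_eq_mul]
  obtain ⟨χ, hχ⟩ : T.Nonempty := heightZero_nonempty (p := p) hB
  obtain ⟨N, hN⟩ := hdvd
  obtain ⟨hF, hFsum⟩ := hfib χ hχ
  set F := T.filter fun ψ : IrrCharacter G => Cfsg.charDegree (ψ : G → ℂ) = Cfsg.charDegree (χ : G → ℂ)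
  have hsplit := (Finset.sum_filter_add_sum_filter_not T
    (fun ψ : IrrCharacter G => Cfsg.charDegree (ψ : G → ℂ) = Cfsg.charDegree (χ : G → ℂ))
    fun ψ => nd p B ψ ^ 2).symm
  set F' := T.filter fun ψ : IrrCharacter G => ¬ Cfsg.charDegree (ψ : G → ℂ) = Cfsg.charDegree (χ : G → ℂ)
  have hcard : F.card + F'.card = T.card :=
    Finset.card_filter_add_card_filter_not _
  have hFT : F.card ≤ T.card := by omega
  have hN0 : 0 < N := by
    rcases Nat.eq_zero_or_pos N with e | e
    · rw [e, mul_zero] at hN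
      exact absurd hN (Finset.card_pos.2 ⟨χ, hχ⟩).ne'
    · exact e
  have ha : ¬ p ∣ nd p B χ ^ 2 := fun h => hnd χ hχ (hp.out.dvd_of_dvd_pow h)
  have hFdvd : p ∣ F.card := by convert hfoc.trans (index_dvd_card_degree hM hB hmax _)
  have hone : F.card = T.card → N ≤ 2 → False := by
    intro e hN2
    have hF' : F' = ∅ := Finset.card_eq_zero.1 (by omega)
    rw [hsplit, hF', Finset.sum_empty, add_zero, hFsum, e, hN, pow_two, mul_assoc] at hsum
    rcases hp.out.dvd_mul.1 (Nat.dvd_of_mul_dvd_mul_left hp.out.pos hsum) with h | h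
    · have := Nat.le_of_dvd hN0 h
      omega
    · exact ha h
  have htwo : N = 2 → p % 4 ≠ 3 := by
    intro e2
    obtain ⟨j, hj⟩ := hFdvd
    have hj2 : j ≤ 2 := by
      by_contra hj3
      have := Nat.mul_le_mul_left p (show 3 ≤ j by omega)
      rw [e2] at hN
      omega
    have hj0 : j ≠ 0 := fun e => by rw [e, mul_zero] at hj; omega
    rcases (by omega : j = 1 ∨ j = 2) with rfl | rfl
    · rw [mul_one] at hj
      rw [e2] at hN
      have hF'p : F'.card = p := by omega
      obtain ⟨ψ, hψ⟩ := Finset.card_pos.1 (show 0 < F'.card by omega)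
      obtain ⟨hψT, hψne⟩ := Finset.mem_filter.1 hψ
      obtain ⟨hG, hGsum⟩ := hfib ψ hψT
      have hsub : (T.filter fun η : IrrCharacter G => Cfsg.charDegree (η : G → ℂ) = Cfsg.charDegree (ψ : G → ℂ)) =
          F' := by
        refine Finset.eq_of_subset_of_card_le (fun η hη => ?_) (by omega)
        obtain ⟨hηT, hηd⟩ := Finset.mem_filter.1 hη
        exact Finset.mem_filter.2 ⟨hηT, fun e => hψne (hηd.symm.trans e)⟩
      rw [hsub] at hGsum
      rw [hsplit, hFsum, hGsum, hj, hF'p, ← mul_add, pow_two p] at hsum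
      have h0 : ((nd p B χ : ZMod p)) ^ 2 + (nd p B ψ : ZMod p) ^ 2 = 0 := by
        have := (ZMod.natCast_eq_zero_iff _ _).2 (Nat.dvd_of_mul_dvd_mul_left hp.out.pos hsum)
        exact_mod_cast this
      have hb : (nd p B ψ : ZMod p) ≠ 0 := fun e =>
        hnd ψ hψT ((ZMod.natCast_eq_zero_iff _ _).1 e)
      refine ZMod.exists_sq_eq_neg_one_iff.1 ⟨(nd p B χ : ZMod p) / (nd p B ψ : ZMod p), ?_⟩
      field_simp
      linear_combination -h0
    · exact absurd (hone (by rw [hj, hN, e2]) (by omega)) id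
  have hN1 : N ≠ 1 := fun e => hone (by rw [e, mul_one] at hN; omega) (by omega)
  refine ⟨?_, fun h4 => ?_⟩
  · have := Nat.mul_le_mul_left p (show 2 ≤ N by omega)
    omega
  · have hN2 : N ≠ 2 := fun e => htwo e h4
    have := Nat.mul_le_mul_left p (show 3 ≤ N by omega)
    omega

end Star

open Classical in
/-- The three bounds, from a defect group whose automorphisms form a `p`-group. -/
theorem main (hM : Cfsg.IsPModular p M) {B : Set (IrrCharacter G)} (hB : Cfsg.IsPBlock M B)
    {D : Subgroup G} (hD : Cfsg.IsDefectGroup p M B D) (hD1 : D ≠ ⊥)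
    (hAut : IsPGroup p (MulAut D)) :
    p ∣ (heightZero p B).card ∧ (3 < p → 2 * p ≤ (heightZero p B).card) ∧
      (3 < p → p % 4 = 3 → 3 * p ≤ (heightZero p B).card) := by
  have hcard := card_defectGroup hM hB hD
  have hd1 : 1 ≤ Cfsg.blockDefect p B := Nat.one_le_iff_ne_zero.2 fun h => hD1 (by
    rw [← Subgroup.card_eq_one, hcard, h, pow_zero])
  rcases le_or_gt p 3 with hp3 | hp3
  · exact ⟨dvd_card_of_le_three hM hB hd1 hp3, fun h => absurd h (by omega),
      fun h => absurd h (by omega)⟩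
  have hp5 : 5 ≤ p := by
    have h4 : p ≠ 4 := fun e => absurd hp.out (by rw [e]; norm_num)
    omega
  have hd2 : 2 ≤ Cfsg.blockDefect p B := by
    by_contra hlt
    rw [show Cfsg.blockDefect p B = 1 by omega, pow_one] at hcard
    haveI : IsCyclic D := isCyclic_of_prime_card hcard
    haveI : Finite (MulAut D) := Finite.of_injective MulEquiv.toEquiv fun a b h =>
      MulEquiv.ext fun z => Equiv.congr_fun h z
    obtain ⟨k, hk⟩ := IsPGroup.iff_card.1 hAut
    rw [IsCyclic.card_mulAut, hcard, Nat.totient_prime hp.out] at hk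
    rcases k with _ | k
    · rw [pow_zero] at hk; omega
    · have : p ∣ p - 1 := ⟨p ^ k, by rw [hk, pow_succ, mul_comm]⟩
      have := Nat.le_of_dvd (by omega) this
      omega
  haveI := charP_res hM
  haveI := BlockPairs.isAlgClosed_res hM
  have hb := isBlock_gblk (M := M) hB
  obtain ⟨P, eP, hmax⟩ := exists_maxPair (p := p) hb
  have hDP : Cfsg.IsDefectGroup p M B P := by
    rw [isDefectGroup_gblk_iff hB]
    exact (IsMaxPair.isDefectGrp hb hmax).1
  obtain ⟨x, rfl⟩ := IsDefectGroup.exists_conj hM hB hD hDP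
  have hAutP : IsPGroup p (MulAut (cj x D)) := hAut.of_equiv
    (MulAut.congr (Subgroup.equivMapOfInjective D _ (MulAut.conj x).injective))
  have hPp : IsPGroup p (cj x D) := IsDefectGroup.isPGroup hDP
  have hP1 : cj x D ≠ ⊥ := fun h => hD1 (by
    rw [← Subgroup.card_eq_one, ← BlockPairs.card_cj x D, h, Subgroup.card_bot])
  have hlt := Cfsg.Agent.S5252.result p hPp _ (isSaturated_blockSystem hb hmax) hp5 hP1
    (hAutP.to_subgroup _)
  have hne : ((blockSystem hmax.1.1).focalSubgroup.subgroupOf (cj x D)).index ≠ 1 := fun h => by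
    rw [Subgroup.index_eq_one, Subgroup.subgroupOf_eq_top] at h
    exact hlt.not_ge h
  have hfoc : p ∣ ((blockSystem hmax.1.1).focalSubgroup.subgroupOf (cj x D)).index := by
    obtain ⟨k, hk⟩ := IsPGroup.iff_card.1 hPp
    obtain ⟨i, -, hi⟩ := (Nat.dvd_prime_pow hp.out).1 (hk ▸ Subgroup.index_dvd_card
      ((blockSystem hmax.1.1).focalSubgroup.subgroupOf (cj x D)))
    rw [hi] at hne ⊢
    exact dvd_pow_self p fun e => hne (by rw [e, pow_zero])
  obtain ⟨a, b, c⟩ := bounds hM hB hmax hp5 hd2 hfoc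
  exact ⟨a, fun _ => b, fun _ => c⟩

end CfsgLib.HeightZeroCount
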